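import Cfsg.Agent.Lib.Known.TitsSquare.Defs

/-!
Kernel checks on blocks of the orbit used for products of two conjugates in the Tits group: closure, second part.
-/

set_option autoImplicit false
set_option maxRecDepth 20000
set_option Elab.async false

namespace CfsgLib.TitsSquare

theorem orb_8 : chkOrb 8 = true := by decide +kernel

theorem orb_9 : chkOrb 9 = true := by decide +kernel

theorem orb_10 : chkOrb 10 = true := by decide +kernel

theorem orb_11 : chkOrb 11 = true := by decide +kernel

theorem orb_12 : chkOrb 12 = true := by decide +kernel

theorem orb_13 : chkOrb 13 = true := by decide +kernel

theorem orb_14 : chkOrb 14 = true := by decide +kernel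

theorem orb_15 : chkOrb 15 = true := by decide +kernel

end CfsgLib.TitsSquare
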