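import Cfsg.Agent.Lib.Known.TitsSquare.Defs

/-!
Kernel checks on blocks of the orbit used for products of two conjugates in the Tits group: fixed points.
-/

set_option autoImplicit false
set_option maxRecDepth 20000
set_option Elab.async false

namespace CfsgLib.TitsSquare

theorem fix_0 : chkFix 0 = true := by decide +kernel

theorem fix_1 : chkFix 1 = true := by decide +kernel

theorem fix_2 : chkFix 2 = true := by decide +kernel

theorem fix_3 : chkFix 3 = true := by decide +kernel

theorem fix_4 : chkFix 4 = true := by decide +kernel

theorem fix_5 : chkFix 5 = true := by decide +kernel

theorem fix_6 : chkFix 6 = true := by decide +kernel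

theorem fix_7 : chkFix 7 = true := by decide +kernel

theorem fix_8 : chkFix 8 = true := by decide +kernel

theorem fix_9 : chkFix 9 = true := by decide +kernel

theorem fix_10 : chkFix 10 = true := by decide +kernel

theorem fix_11 : chkFix 11 = true := by decide +kernel

theorem fix_12 : chkFix 12 = true := by decide +kernel

theorem fix_13 : chkFix 13 = true := by decide +kernel

theorem fix_14 : chkFix 14 = true := by decide +kernel

theorem fix_15 : chkFix 15 = true := by decide +kernel

end CfsgLib.TitsSquare
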