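import Cfsg.Agent.Lib.Known.TitsSquare.Defs

/-!
Kernel checks on blocks of the orbit used for products of two conjugates in the Tits group: neighbours, first part.
-/

set_option autoImplicit false
set_option maxRecDepth 20000
set_option Elab.async false

namespace CfsgLib.TitsSquare

theorem thirteen_0 : chkThirteen 0 = true := by decide +kernel

theorem thirteen_1 : chkThirteen 1 = true := by decide +kernel

theorem thirteen_2 : chkThirteen 2 = true := by decide +kernel

theorem thirteen_3 : chkThirteen 3 = true := by decide +kernel

theorem thirteen_4 : chkThirteen 4 = true := by decide +kernel

theorem thirteen_5 : chkThirteen 5 = true := by decide +kernel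

theorem thirteen_6 : chkThirteen 6 = true := by decide +kernel

theorem thirteen_7 : chkThirteen 7 = true := by decide +kernel

end CfsgLib.TitsSquare
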