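import Cfsg.Agent.Lib.Known.TitsSquare.Defs

/-!
Kernel checks on blocks of the orbit used for products of two conjugates in the Tits group: neighbours, second part.
-/

set_option autoImplicit false
set_option maxRecDepth 20000
set_option Elab.async false

namespace CfsgLib.TitsSquare

theorem thirteen_8 : chkThirteen 8 = true := by decide +kernel

theorem thirteen_9 : chkThirteen 9 = true := by decide +kernel

theorem thirteen_10 : chkThirteen 10 = true := by decide +kernel

theorem thirteen_11 : chkThirteen 11 = true := by decide +kernel

theorem thirteen_12 : chkThirteen 12 = true := by decide +kernel

theorem thirteen_13 : chkThirteen 13 = true := by decide +kernel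

theorem thirteen_14 : chkThirteen 14 = true := by decide +kernel

theorem thirteen_15 : chkThirteen 15 = true := by decide +kernel

end CfsgLib.TitsSquare
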