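import Cfsg.Agent.Lib.Known.TitsSquare.Checks
import Cfsg.Agent.Lib.Lie.Twisted.Tits.NoTwoInst

/-!
Products of two conjugates in the Tits group: certificate trees over the even unipotent subgroup.
-/

set_option autoImplicit false

namespace CfsgLib.TitsSquare

open CfsgLib.Lie.Chev CfsgLib.Lie.TitsEval CfsgLib.Lie.Tits

attribute [local irreducible] Cfsg.Lie.chevF4 Cfsg.Lie.ChevalleyDatum.group tabF4 idF4 split0

/-- the group with parities -/
abbrev GP : Type := split0.Gp

/-- its model -/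
noncomputable abbrev MG : Model GP := split0.mG

/-- the parity -/
noncomputable abbrev pG : GP →* Multiplicative (ZMod 2) := split0.χ

/-- a product of two conjugates of the chosen element by even elements -/
def Good (g : GP) : Prop :=
  ∃ u ∈ pG.ker, ∃ v ∈ pG.ker, g = u * MG.ev xW * u⁻¹ * (v * MG.ev xW * v⁻¹)

/-- a property passed back along even conjugation -/
def ConjClosed (Q : GP → Prop) : Prop := ∀ g : GP, ∀ u ∈ pG.ker, Q (u * g * u⁻¹) → Q g

theorem good_closed : ConjClosed Good := by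
  rintro g u hu ⟨a, ha, b, hb, e⟩
  refine ⟨u⁻¹ * a, mul_mem (inv_mem hu) ha, u⁻¹ * b, mul_mem (inv_mem hu) hb, ?_⟩
  calc g = u⁻¹ * (u * g * u⁻¹) * u := by group
    _ = _ := by rw [e]; group

theorem ev_even {w : List ℕ} (h : par w = false) : MG.ev w ∈ pG.ker :=
  MonoidHom.mem_ker.2 (MG.χ_even pG χ0 h)

theorem eqW_ev {u v : List ℕ} (h : eqW u v = true) : MG.ev u = MG.ev v := MG.ev_eq h

theorem ev_invW : ∀ {w : List ℕ}, (∀ l ∈ w, l < 18) → MG.ev (invW w) = (MG.ev w)⁻¹ := by
  intro w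
  induction w with
  | nil => intro _; rw [show invW [] = [] from rfl, Model.ev_nil, inv_one]
  | cons a w ih =>
    intro h
    have h1 := inv_ok
    simp only [chkInv, List.all_eq_true, List.mem_range] at h1
    have e := eqW_ev (h1 a (h a List.mem_cons_self))
    rw [MG.ev_cons a, Model.ev_nil] at e
    have e' : invW (a :: w) = invW w ++ [invL.getD a a] := by simp [invW]
    rw [e', Model.ev_append, ih fun l hl => h l (List.mem_cons_of_mem _ hl), MG.ev_cons a w, mul_inv_rev,
      inv_eq_of_mul_eq_one_right e]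

theorem good_rep {r : ℕ} (hr : r < 21) : Good (MG.ev (rep r)) := by
  have h := wit_ok
  simp only [List.all_eq_true, List.mem_range, chkWit, Bool.and_eq_true, Bool.not_eq_true', nat_blt_iff] at h
  obtain ⟨⟨⟨⟨hu, hv⟩, hul⟩, hvl⟩, e⟩ := h r hr
  exact ⟨_, ev_even hu, _, ev_even hv, by
    rw [eqW_ev e, Model.ev_append, Model.ev_append, Model.ev_append, Model.ev_append, Model.ev_append,
      ev_invW hul, ev_invW hvl]⟩

/-- the tail of the series from an index on -/
noncomputable def rest (i : ℕ) : Subgroup GP :=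
  Subgroup.closure ((fun j => MG.ev (eL j)) '' {j | i ≤ j ∧ j < 11})

theorem rest_anti {i k : ℕ} (h : i ≤ k) : rest k ≤ rest i :=
  Subgroup.closure_mono (Set.image_mono fun _ hj => ⟨h.trans hj.1, hj.2⟩)

theorem eL_mem {i j : ℕ} (h : i ≤ j) (hj : j < 11) : MG.ev (eL j) ∈ rest i :=
  Subgroup.subset_closure ⟨j, ⟨h, hj⟩, rfl⟩

theorem eX_mem {i : ℕ} : ∀ {is : List ℕ}, inTail i is = true → MG.ev (eX is) ∈ rest i := by
  intro is
  induction is with
  | nil => intro _; rw [show eX [] = [] from rfl, Model.ev_nil]; exact one_mem _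
  | cons a is ih =>
    intro h
    simp only [inTail, List.all_cons, Bool.and_eq_true, nat_ble_iff, nat_blt_iff] at h
    rw [show eX (a :: is) = eL a ++ eX is from rfl, Model.ev_append]
    exact mul_mem (eL_mem h.1.1 h.1.2) (ih (by simpa [inTail] using h.2))

theorem series_spec : (∀ i < 11, par (eL i) = false ∧ ∀ l ∈ eL i, l < 16) ∧
    (∀ i < 11, MG.ev (eL i) * MG.ev (eL i) ∈ rest (i + 1)) ∧
    ∀ i < 11, ∀ j < i, MG.ev (eL j) * MG.ev (eL i) * (MG.ev (eL j))⁻¹ ∈ rest i := by
  have h := series_ok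
  simp only [chkSeries, Bool.and_eq_true, List.all_eq_true, List.mem_range, Bool.not_eq_true', nat_blt_iff] at h
  obtain ⟨⟨h1, h2⟩, h3⟩ := h
  refine ⟨h1, fun i hi => ?_, fun i hi j hj => ?_⟩
  · obtain ⟨ht, e⟩ := h2 i hi
    rw [← Model.ev_append, eqW_ev e]
    exact eX_mem ht
  · obtain ⟨ht, e⟩ := h3 i hi j hj
    rw [← Model.ev_append, eqW_ev e, Model.ev_append, mul_inv_cancel_right]
    exact eX_mem ht

theorem rest_zero_even : rest 0 ≤ pG.ker :=
  (Subgroup.closure_le _).2 (by rintro _ ⟨j, hj, rfl⟩; exact ev_even (series_spec.1 j hj.2).1)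

theorem evenU_le_rest : MG.evenU pG ≤ rest 0 := by
  refine (MG.evenU_le_genU pG χ0).trans ((Subgroup.closure_le _).2 ?_)
  obtain ⟨-, -, -, -, e0, e1, e3⟩ := small_orders_ok
  rintro _ (rfl | rfl | rfl)
  · exact e1 ▸ eL_mem (i := 0) (j := 1) (by norm_num) (by norm_num)
  · exact e3 ▸ eL_mem (i := 0) (j := 3) (by norm_num) (by norm_num)
  · exact e0 ▸ eL_mem (i := 0) (j := 0) le_rfl (by norm_num)

/-- the series is normal -/
theorem rest_conj {i : ℕ} {v : GP} (hv : v ∈ rest 0) : ∀ t ∈ rest i, v * t * v⁻¹ ∈ rest i := by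
  have := finite_Gp
  rw [← Subgroup.mem_toSubmonoid, rest, Subgroup.closure_toSubmonoid_of_finite] at hv
  induction hv using Submonoid.closure_induction with
  | mem x hx =>
    obtain ⟨j, ⟨-, hj⟩, rfl⟩ := hx
    intro t ht
    refine (show rest i ≤ (rest i).comap (MulAut.conj (MG.ev (eL j))).toMonoidHom from
      (Subgroup.closure_le _).2 ?_) ht
    rintro _ ⟨k, ⟨hk, hk'⟩, rfl⟩
    show MG.ev (eL j) * MG.ev (eL k) * (MG.ev (eL j))⁻¹ ∈ rest i
    rcases lt_trichotomy j k with h | rfl | h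
    · exact rest_anti hk (series_spec.2.2 k hk' j h)
    · rw [mul_inv_cancel_right]; exact eL_mem hk hk'
    · exact mul_mem (mul_mem (eL_mem (by omega) hj) (eL_mem hk hk')) (inv_mem (eL_mem (by omega) hj))
  | one => intro t ht; simpa using ht
  | mul x y _ _ hx hy =>
    intro t ht
    rw [show x * y * t * (x * y)⁻¹ = x * (y * t * y⁻¹) * x⁻¹ by group]
    exact hx _ (hy t ht)

/-- one index splits off -/
theorem rest_split {i : ℕ} (hi : i < 11) {t : GP} (ht : t ∈ rest i) :
    t ∈ rest (i + 1) ∨ ∃ s ∈ rest (i + 1), t = MG.ev (eL i) * s := by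
  have := finite_Gp
  rw [← Subgroup.mem_toSubmonoid, rest, Subgroup.closure_toSubmonoid_of_finite] at ht
  induction ht using Submonoid.closure_induction_left with
  | one => exact Or.inl (one_mem _)
  | mul_left x hx y _ ih =>
    obtain ⟨j, ⟨hj, hj'⟩, rfl⟩ := hx
    rcases eq_or_lt_of_le hj with rfl | hlt
    · rcases ih with h | ⟨s, hs, rfl⟩
      · exact Or.inr ⟨y, h, rfl⟩
      · left
        rw [← mul_assoc]
        exact mul_mem (series_spec.2.1 i hi) hs
    · have hE := eL_mem (i := i + 1) hlt hj'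
      rcases ih with h | ⟨s, hs, rfl⟩
      · exact Or.inl (mul_mem hE h)
      · right
        refine ⟨(MG.ev (eL i))⁻¹ * MG.ev (eL j) * MG.ev (eL i) * s, mul_mem ?_ hs, by group⟩
        have h1 := rest_conj (inv_mem (eL_mem (Nat.zero_le i) hi)) _ hE
        rwa [inv_inv] at h1

theorem rest_top : rest 11 = ⊥ := by
  rw [rest, Subgroup.closure_eq_bot_iff]
  rintro _ ⟨j, ⟨h1, h2⟩, rfl⟩
  omega

/-- the tree lemma -/
theorem tree_sound {Q : GP → Prop} (hQ : ConjClosed Q) (hrep : ∀ r < 22, Q (MG.ev (rep r))) :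
    ∀ (T : Tree) (i : ℕ) (w : List ℕ), chkTree T i w = true → ∀ t ∈ rest i, Q (MG.ev w * t) := by
  intro T
  induction T with
  | leaf r h =>
    intro i w hc t ht
    simp only [chkTree, Bool.and_eq_true, Bool.not_eq_true', nat_beq_iff, nat_blt_iff] at hc
    obtain ⟨⟨⟨rfl, hh⟩, hr⟩, e⟩ := hc
    rw [rest_top, Subgroup.mem_bot] at ht
    rw [ht, mul_one]
    refine hQ _ _ (ev_even hh) ?_
    rw [← Model.ev_append, eqW_ev e, Model.ev_append, mul_inv_cancel_right]
    exact hrep r hr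
  | red v tail T ih =>
    intro i w hc t ht
    simp only [chkTree, Bool.and_eq_true, nat_blt_iff] at hc
    obtain ⟨⟨⟨⟨hi, hv⟩, htl⟩, e⟩, hT⟩ := hc
    rcases rest_split hi ht with h | ⟨s, hs, rfl⟩
    · exact ih _ _ hT t h
    · refine hQ _ _ (rest_zero_even (eX_mem hv)) ?_
      have e' := eqW_ev e
      simp only [Model.ev_append] at e'
      rw [show MG.ev (eX v) * (MG.ev w * (MG.ev (eL i) * s)) * (MG.ev (eX v))⁻¹ =
          MG.ev (eX v) * (MG.ev w * MG.ev (eL i)) * (MG.ev (eX v))⁻¹ *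
            (MG.ev (eX v) * s * (MG.ev (eX v))⁻¹) by group, e', mul_inv_cancel_right, mul_assoc]
      exact ih _ _ hT _ (mul_mem (eX_mem htl) (rest_conj (eX_mem hv) s hs))
  | both a b iha ihb =>
    intro i w hc t ht
    simp only [chkTree, Bool.and_eq_true, nat_blt_iff] at hc
    obtain ⟨⟨hi, ha⟩, hb⟩ := hc
    rcases rest_split hi ht with h | ⟨s, hs, rfl⟩
    · exact iha _ _ ha t h
    · rw [← mul_assoc, ← Model.ev_append]
      exact ihb _ _ hb s hs

/-- elements of three kinds of cosets reduce to the representatives -/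
theorem tree_cases {Q : GP → Prop} (hQ : ConjClosed Q) (hrep : ∀ r < 22, Q (MG.ev (rep r))) {s : ℕ} (hs : s < 2)
    {t : GP} (ht : t ∈ MG.evenU pG) : Q t ∧ Q (MG.ev [16 + s] * t) := by
  have ht' := evenU_le_rest ht
  refine ⟨by simpa [Model.ev_nil] using tree_sound hQ hrep treeU 0 [] treeU_ok t ht', ?_⟩
  interval_cases s
  · exact tree_sound hQ hrep treeA 0 [16] treeA_ok t ht'
  · exact tree_sound hQ hrep treeB 0 [17] treeB_ok t ht'

end CfsgLib.TitsSquare
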