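import Cfsg.Agent.Lib.Known.TitsSquare.Checks
import Cfsg.Agent.Lib.Known.TitsSquare.OrbA
import Cfsg.Agent.Lib.Known.TitsSquare.OrbB
import Cfsg.Agent.Lib.Known.TitsSquare.OrbFix
import Cfsg.Agent.Lib.Known.TitsSquare.ThirteenA
import Cfsg.Agent.Lib.Known.TitsSquare.ThirteenB
import Cfsg.Agent.Lib.Known.TitsSquare.Tree
import Cfsg.Agent.Lib.Lie.Twisted.Tits.Multiplier

/-!
The action of the Tits group on an orbit of 1755 vectors.
-/

set_option autoImplicit false

namespace CfsgLib.TitsSquare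

open Cfsg.Lie (chevF4)
open CfsgLib.Lie.Chev CfsgLib.Lie.TitsEval CfsgLib.Lie.Tits

attribute [local irreducible] Cfsg.Lie.chevF4 Cfsg.Lie.ChevalleyDatum.group tabF4 idF4 split0

/-- column vectors -/
abbrev Vec : Type := Matrix chevF4.Idx (Fin 1) (ZMod 2)

/-- a packed vector -/
noncomputable def vec (v : ℕ) : Vec := matP chevF4 1 v

/-- the action -/
noncomputable def act (g : GP) (y : Vec) : Vec :=
  (((g : G0 × Multiplicative (ZMod 2)).1 : Matrix.GeneralLinearGroup chevF4.Idx (ZMod 2)) :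
    Matrix chevF4.Idx chevF4.Idx (ZMod 2)) * y

theorem act_mul (g h : GP) (y : Vec) : act (g * h) y = act g (act h y) := by
  unfold act
  rw [← Matrix.mul_assoc]
  rfl

theorem act_one (y : Vec) : act 1 y = y := by
  unfold act
  exact Matrix.one_mul y

theorem act_inv {g : GP} {y z : Vec} (h : act g y = z) : act g⁻¹ z = y := by
  rw [← h, ← act_mul, inv_mul_cancel, act_one]

theorem act_injective (g : GP) : Function.Injective (act g) := fun a b h => by
  rw [← act_inv (g := g) (y := a) rfl, h]; exact act_inv rfl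

theorem act_ev (w : List ℕ) (v : ℕ) : act (MG.ev w) (vec v) = vec (actV w v) := by
  unfold act vec actV
  rw [fst0, wg, wordG_val]
  exact run_spec tab_ok one_pos (flat w) (flat_lt w) v

theorem vec_xor (a b : ℕ) : vec (a ^^^ b) = vec a + vec b := by
  ext i j
  show b2z ((a ^^^ b).testBit _) = b2z (a.testBit _) + b2z (b.testBit _)
  rw [Nat.testBit_xor, b2z_xor]

theorem act_add (g : GP) (y z : Vec) : act g (y + z) = act g y + act g z := Matrix.mul_add _ y z

theorem vec_ne {A B : ℕ} (h : chkDiff chevF4 1 A B = true) : vec A ≠ vec B := by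
  intro e
  simp only [chkDiff, Bool.not_eq_true'] at h
  rw [← Bool.not_eq_true, nat_beq_iff] at h
  refine h (Nat.eq_of_testBit_eq fun p => ?_)
  rw [Nat.testBit_and, Nat.testBit_two_pow_sub_one, Nat.zero_testBit]
  by_cases hp : p < 1 * (chevF4.rank + chevF4.nroots)
  · obtain ⟨a, ha⟩ := exists_code chevF4 (show p < chevF4.rank + chevF4.nroots by omega)
    have h2 := b2z_inj _ _ (congrFun (congrFun e a) ⟨0, one_pos⟩)
    simp only [one_mul, ha, Nat.add_zero] at h2
    simp [Nat.testBit_xor, h2]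
  · rw [decide_eq_false hp, Bool.and_false]

/-- the base vector -/
noncomputable def v0 : Vec := vec (2 ^ 48)

/-- the vectors of the table -/
def InTab (y : Vec) : Prop := ∃ v : ℕ, inOrb v = true ∧ vec v = y

/-- the orbit of the base vector -/
def InO (y : Vec) : Prop := ∃ g ∈ pG.ker, act g v0 = y

theorem inOrb_bucket {v : ℕ} (h : inOrb v = true) :
    ∃ k < 16, ∃ b ∈ orbBuckets.getD k [], v ∈ b := by
  simp only [inOrb, List.any_eq_true, nat_beq_iff] at h
  obtain ⟨u, hu, rfl⟩ := h
  refine ⟨u % 251 / 16, ?_, _, ?_, hu⟩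
  · have : u % 251 < 251 := Nat.mod_lt _ (by norm_num)
    omega
  · rcases lt_or_ge (u % 251 % 16) (orbBuckets.getD (u % 251 / 16) []).length with hl | hl
    · rw [List.getD_eq_getElem _ _ hl]; exact List.getElem_mem hl
    · rw [List.getD_eq_default _ _ hl] at hu; exact absurd hu List.not_mem_nil

theorem block_spec (f : ℕ → Bool)
    (h0 : f 0 = true) (h1 : f 1 = true) (h2 : f 2 = true) (h3 : f 3 = true) (h4 : f 4 = true)
    (h5 : f 5 = true) (h6 : f 6 = true) (h7 : f 7 = true) (h8 : f 8 = true) (h9 : f 9 = true)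
    (h10 : f 10 = true) (h11 : f 11 = true) (h12 : f 12 = true) (h13 : f 13 = true) (h14 : f 14 = true)
    (h15 : f 15 = true) {k : ℕ} (hk : k < 16) : f k = true := by
  interval_cases k <;> assumption

theorem tab_step {v : ℕ} (h : inOrb v = true) {g : List ℕ} (hg : g ∈ genW) : inOrb (actV g v) = true := by
  obtain ⟨k, hk, b, hb, hv⟩ := inOrb_bucket h
  have := block_spec chkOrb orb_0 orb_1 orb_2 orb_3 orb_4 orb_5 orb_6 orb_7 orb_8 orb_9 orb_10 orb_11 orb_12
    orb_13 orb_14 orb_15 hk
  simp only [chkOrb, List.all_eq_true] at this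
  exact this b hb v hv g hg

theorem gen_le {S : Subgroup GP} (hS : S ≤ pG.ker) (h : ∀ g ∈ genW, MG.ev g ∈ S) : pG.ker ≤ S := by
  refine MG.over_top pG χ0 ((MG.evenU_le_genU pG χ0).trans ((Subgroup.closure_le _).2 ?_)) hS split0.mG_top
    (h _ (by simp [genW])) (h _ (by simp [genW]))
  rintro _ (rfl | rfl | rfl) <;> exact h _ (by simp [genW])

theorem genW_even : ∀ g ∈ genW, par g = false := by decide +kernel

theorem inTab_act {g : GP} (hg : g ∈ pG.ker) : ∀ y, InTab y → InTab (act g y) := by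
  have := finite_Gp
  have hker : pG.ker ≤ Subgroup.closure (MG.ev '' {g | g ∈ genW}) := gen_le
    ((Subgroup.closure_le _).2 (by rintro _ ⟨g, hg, rfl⟩; exact ev_even (genW_even g hg)))
    fun g hg => Subgroup.subset_closure ⟨g, hg, rfl⟩
  have hg' := hker hg
  clear hg
  rw [← Subgroup.mem_toSubmonoid, Subgroup.closure_toSubmonoid_of_finite] at hg'
  induction hg' using Submonoid.closure_induction with
  | mem x hx =>
    obtain ⟨w, hw, rfl⟩ := hx
    rintro _ ⟨v, hv, rfl⟩
    exact ⟨_, tab_step hv hw, (act_ev w v).symm⟩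
  | one => intro y hy; rwa [act_one]
  | mul x y _ _ hx hy => intro z hz; rw [act_mul]; exact hx _ (hy z hz)

theorem inO_inTab {y : Vec} (h : InO y) : InTab y := by
  obtain ⟨g, hg, rfl⟩ := h
  exact inTab_act hg _ ⟨_, stab_ok.2.2.2, rfl⟩

theorem inOrb_congr {w v : ℕ} (e : vec w = vec v) (h : inOrb w = true) : inOrb (v % 2 ^ 52) = true := by
  obtain ⟨k, hk, b, hb, hv⟩ := inOrb_bucket h
  have hs := small_ok
  simp only [chkSmall, List.all_eq_true, nat_blt_iff] at hs
  have hlt : w < 2 ^ 52 := by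
    rcases lt_or_ge k orbBuckets.length with hl | hl
    · rw [List.getD_eq_getElem _ _ hl] at hb; exact hs _ (List.getElem_mem hl) b hb w hv
    · rw [List.getD_eq_default _ _ hl] at hb; exact absurd hb List.not_mem_nil
  have hn : 1 * (chevF4.rank + chevF4.nroots) = 52 := by rw [nroots_eq.2.1, nroots_eq.1]
  rw [show v % 2 ^ 52 = w from (Nat.eq_of_testBit_eq fun p => ?_)]
  · exact h
  rw [Nat.testBit_mod_two_pow]
  by_cases hp : p < 52
  · obtain ⟨a, ha⟩ := exists_code chevF4 (show p < chevF4.rank + chevF4.nroots by omega)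
    have h2 := b2z_inj _ _ (congrFun (congrFun e a) ⟨0, one_pos⟩)
    simp only [one_mul, ha, Nat.add_zero] at h2
    simp [hp, h2]
  · rw [decide_eq_false hp, Bool.false_and, Nat.testBit_lt_two_pow (lt_of_lt_of_le hlt (Nat.pow_le_pow_right two_pos (by omega)))]

theorem inO_act {g : GP} (hg : g ∈ pG.ker) {y : Vec} (h : InO y) : InO (act g y) := by
  obtain ⟨a, ha, rfl⟩ := h
  exact ⟨g * a, mul_mem hg ha, act_mul g a v0⟩

end CfsgLib.TitsSquare
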