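import Cfsg.Agent.Lib.Known.TitsSquare.Defs
import Cfsg.Agent.Lib.Lie.Twisted.Tits.MultChecks

/-!
Kernel checks of the certificates on products of two conjugates in the Tits group.
-/

set_option autoImplicit false
set_option maxRecDepth 20000
set_option Elab.async false

namespace CfsgLib.TitsSquare

open CfsgLib.Lie.Chev CfsgLib.Lie.TitsEval CfsgLib.Lie.Tits

theorem series_ok : chkSeries = true := by decide +kernel

theorem treeU_ok : chkTree treeU 0 [] = true := by decide +kernel

theorem treeA_ok : chkTree treeA 0 [16] = true := by decide +kernel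

theorem treeB_ok : chkTree treeB 0 [17] = true := by decide +kernel

theorem inv_ok : chkInv = true := by decide +kernel

theorem wit_ok : (List.range 21).all chkWit = true := by decide +kernel

theorem sq_ok : (List.range 22).all chkSq = true := by decide +kernel

theorem rep_ok : (rep 1 == [17, 2] && rep 2 == xW && rep 4 == [13] && rep 5 == [15] && rep 21 == [] &&
    !par [13] && !par [15] && !par xW) = true := by decide +kernel

theorem cls15_ok : (cls15.getD 0 [] == [15] && (List.range 4).all fun a => (List.range 16).all fun l =>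
    let b := (cls15Conj.getD a []).getD l 0
    Nat.blt b 4 && eqW ([l] ++ cls15.getD a []) (cls15.getD b [] ++ [l])) = true := by decide +kernel

/-- the Weyl words moving the central involution -/
theorem cells13_ok : ((List.range 16).all fun i => Nat.beq i 0 || Nat.beq i 2 ||
    chkDiff Cfsg.Lie.chevF4 52 (runP 52 tabF4 (flat (stw i ++ [13])) idF4)
      (runP 52 tabF4 (flat ([13] ++ stw i)) idF4)) = true := by decide +kernel

theorem cells15_ok : ((List.range 16).all fun i => Nat.beq i 0 || Nat.beq i 1 ||
    (List.range 4).all fun a => (List.range 4).all fun b =>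
      chkDiff Cfsg.Lie.chevF4 52 (runP 52 tabF4 (flat (stw i ++ cls15.getD a [])) idF4)
        (runP 52 tabF4 (flat (cls15.getD b [] ++ stw i)) idF4)) = true := by decide +kernel

theorem central13_ok : ((List.range 16).all fun l => eqW [l, 13] [13, l]) = true := by decide +kernel

theorem stab_ok : ((([[0], [2], [1, 4], [17], [2]] : List (List ℕ))).all fun g =>
      !par g && Nat.beq (actV g (2 ^ 48)) (2 ^ 48)) = true ∧
    chkDiff Cfsg.Lie.chevF4 1 (actV [16] (2 ^ 48)) (2 ^ 48) = true ∧
    chkDiff Cfsg.Lie.chevF4 1 (actV xW (2 ^ 48)) (2 ^ 48) = true ∧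
    inOrb (2 ^ 48) = true := by decide +kernel

theorem fixFive_ok : (fixFive.all fun e => !par e.2 && Nat.beq (actV e.2 (2 ^ 48)) e.1 &&
      Nat.beq (actV [17, 2] e.1) e.1) = true ∧
    ((List.range 5).all fun a => (List.range a).all fun b =>
      chkDiff Cfsg.Lie.chevF4 1 (fixFive.getD a (0, [])).1 (fixFive.getD b (0, [])).1) = true ∧
    fixFive.length = 5 := by decide +kernel

theorem thirteen_list_ok : (orbThirteen.length = 13 ∧ orbThirteen.getD 0 0 = 2 ^ 48 ∧
    ((List.range 12).all fun a => Nat.beq (actV xW (orbThirteen.getD a 0)) (orbThirteen.getD (a + 1) 0)) = true ∧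
    Nat.beq (actV xW (orbThirteen.getD 12 0)) (2 ^ 48) = true ∧
    ((List.range 13).all fun a => (List.range a).all fun b =>
      chkDiff Cfsg.Lie.chevF4 1 (orbThirteen.getD a 0) (orbThirteen.getD b 0)) = true) ∧
    Nat.beq (actV sumTr (2 ^ 48)) ((2 ^ 48) ^^^ actV xW (2 ^ 48)) = true ∧ par sumTr = false := by decide +kernel

theorem threeConj_ok : ((List.range 26).all fun p =>
    let e := threeConj.getD p (0, [])
    Nat.beq e.1 0 && !par e.2 &&
      eqW (e.2 ++ ((threeTable.wd (p + 1)).map threeAt).flatten) (rep e.1 ++ e.2)) = true := by decide +kernel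

theorem fiveConj_ok : ((List.range 24).all fun p =>
    let e := fiveConj.getD p (0, [])
    Nat.beq e.1 1 && !par e.2 &&
      eqW (e.2 ++ ((fiveTable.wd (p + 1)).map fiveAt).flatten) (rep e.1 ++ e.2)) = true := by decide +kernel

theorem thirteenConj_ok : ((List.range 12).all fun j =>
    let e := thirteenConj.getD j (0, [])
    (Nat.beq e.1 2 || Nat.beq e.1 3) && !par e.2 &&
      eqW (e.2 ++ (List.replicate (j + 1) xW).flatten) (rep e.1 ++ e.2)) = true ∧
    eqW (List.replicate 13 xW).flatten [] = true := by decide +kernel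

theorem small_ok : chkSmall = true := by decide +kernel

theorem small_orders_ok : eqW (List.replicate 3 (rep 0)).flatten [] = true ∧
    eqW (List.replicate 5 (rep 1)).flatten [] = true ∧ par (rep 0) = false ∧ par (rep 1) = false ∧
    (eL 0 = [1, 4] ∧ eL 1 = [0] ∧ eL 3 = [2]) := by decide +kernel

theorem odd_divisors_ok : ((List.range 8776).all fun n => !Nat.beq (8775 % n) 0 ||
    Nat.beq n 1 || Nat.beq n 3 || Nat.beq n 5 || Nat.beq n 13 ||
    ([9, 25, 15, 39, 65] : List ℕ).any fun d => Nat.beq (n % d) 0) = true := by decide +kernel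

end CfsgLib.TitsSquare
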