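import Cfsg.Agent.Lib.Lie.Twisted.Tits.Checks
import Cfsg.Agent.Lib.Known.TitsSquare.Data

/-!
Boolean tests for the certificates on products of two conjugates in the Tits group.
-/

set_option autoImplicit false

namespace CfsgLib.TitsSquare

open CfsgLib.Lie.Chev CfsgLib.Lie.TitsEval CfsgLib.Lie.Tits

/-- an element of the sequence -/
def eL (i : ℕ) : List ℕ := eW.getD i []

/-- an ordered product in the sequence -/
def eX (is : List ℕ) : List ℕ := is.flatMap eL

/-- a representative -/
def rep (r : ℕ) : List ℕ := repW.getD r []

/-- indices in a tail of the sequence -/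
def inTail (i : ℕ) (is : List ℕ) : Bool := is.all fun j => Nat.ble i j && Nat.blt j 11

/-- the sequence is a normal series -/
def chkSeries : Bool :=
  ((List.range 11).all fun i => !par (eL i) && (eL i).all fun l => Nat.blt l 16) &&
  ((List.range 11).all fun i => inTail (i + 1) (sqE.getD i []) && eqW (eL i ++ eL i) (eX (sqE.getD i []))) &&
  (List.range 11).all fun i => (List.range i).all fun j =>
    inTail i ((conjE.getD i []).getD j []) && eqW (eL j ++ eL i) (eX ((conjE.getD i []).getD j []) ++ eL j)

/-- a certificate tree is valid at a word and a level -/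
def chkTree : Tree → ℕ → List ℕ → Bool
  | .leaf r h, i, w => Nat.beq i 11 && !par h && Nat.blt r 22 && eqW (h ++ w) (rep r ++ h)
  | .red v tail t, i, w => Nat.blt i 11 && inTail 0 v && inTail (i + 1) tail &&
      eqW (eX v ++ (w ++ eL i)) (w ++ eX tail ++ eX v) && chkTree t (i + 1) w
  | .both a b, i, w => Nat.blt i 11 && chkTree a (i + 1) w && chkTree b (i + 1) (w ++ eL i)

/-- inverse letters -/
def invL : List ℕ := [0, 3, 2, 1, 6, 5, 4, 7, 10, 9, 8, 11, 14, 13, 12, 15, 16, 17]

/-- the inverse word -/
def invW (w : List ℕ) : List ℕ := w.reverse.map fun l => invL.getD l l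

/-- the inverse letters are inverse -/
def chkInv : Bool := (List.range 18).all fun l => eqW [l, invL.getD l l] []

/-- a representative is a product of two conjugates -/
def chkWit (r : ℕ) : Bool :=
  let u := (witW.getD r ([], [])).1
  let v := (witW.getD r ([], [])).2
  !par u && !par v && (u.all fun l => Nat.blt l 18) && (v.all fun l => Nat.blt l 18) &&
    eqW (rep r) (u ++ xW ++ invW u ++ (v ++ xW ++ invW v))

/-- a representative other than the two classes of involutions has nontrivial square -/
def chkSq (r : ℕ) : Bool :=
  Nat.beq r 4 || Nat.beq r 5 || Nat.beq r 21 ||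
    chkDiff Cfsg.Lie.chevF4 1 (runP 1 tabF4 (flat (rep r ++ rep r)) (2 ^ 48)) (2 ^ 48) ||
    chkDiff Cfsg.Lie.chevF4 52 (runP 52 tabF4 (flat (rep r ++ rep r)) idF4) (runP 52 tabF4 (flat []) idF4)

/-- the image of a packed vector -/
def actV (w : List ℕ) (v : ℕ) : ℕ := runP 1 tabF4 (flat w) v

/-- membership in the orbit table -/
def inOrb (v : ℕ) : Bool :=
  ((((orbBuckets.getD (v % 251 / 16) []).getD (v % 251 % 16) [])).any fun u => Nat.beq u v)

/-- generators of the group -/
def genW : List (List ℕ) := [[0], [2], [1, 4], [16], [17]]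

/-- one block of the closure test -/
def chkOrb (k : ℕ) : Bool :=
  (orbBuckets.getD k []).all fun b => b.all fun v => genW.all fun g => inOrb (actV g v)

/-- one block of the fixed point test -/
def chkFix (k : ℕ) : Bool :=
  (orbBuckets.getD k []).all fun b => b.all fun v =>
    (fixFive.any fun e => Nat.beq e.1 v) || chkDiff Cfsg.Lie.chevF4 1 (actV [17, 2] v) v

/-- one block of the neighbour test -/
def chkThirteen (k : ℕ) : Bool :=
  (orbBuckets.getD k []).all fun b => b.all fun v =>
    (orbThirteen.any fun u => Nat.beq u v) || !inOrb ((v ^^^ actV xW v) % 2 ^ 52)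

/-- the table consists of vectors of length fifty-two -/
def chkSmall : Bool := orbBuckets.all fun c => c.all fun b => b.all fun v => Nat.blt v (2 ^ 52)

end CfsgLib.TitsSquare
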