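import Cfsg.Agent.Lib.Known.TitsSquare.Odd

/-!
Elements of even order in the Tits group: they centralise one of two involutions, so lie in three Bruhat cells.
-/

set_option autoImplicit false
set_option maxRecDepth 20000

namespace CfsgLib.TitsSquare

open Cfsg.Lie (chevF4)
open CfsgLib.Lie.Chev CfsgLib.Lie.TitsEval CfsgLib.Lie.Tits

attribute [local irreducible] Cfsg.Lie.chevF4 Cfsg.Lie.ChevalleyDatum.group tabF4 idF4 split0

theorem ev_ne {u v : List ℕ} (h : chkDiff chevF4 52 (runP 52 tabF4 (flat u) idF4) (runP 52 tabF4 (flat v) idF4) = true) :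
    MG.ev u ≠ MG.ev v := fun e => wg_ne (show 0 < 52 by norm_num) h (by rw [← fst0, ← fst0, e])

theorem conj_order (u y : GP) : orderOf (u * y * u⁻¹) = orderOf y := by
  simpa using orderOf_injective (MulAut.conj u).toMonoidHom (MulEquiv.injective _) y

/-- an element in one of three cells is handled by the trees -/
theorem of_cell {Q : GP → Prop} (hQ : ConjClosed Q) (hrep : ∀ r < 22, Q (MG.ev (rep r))) {g : GP}
    (hg : g ∈ pG.ker) {s : ℕ} (hs : s < 2)
    (h : g ∈ MG.Bsub ∨ ∃ b ∈ MG.Bsub, ∃ b' ∈ MG.Bsub, g = b * MG.ev [16 + s] * b') : Q g := by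
  rcases h with hb | ⟨b, hb, b', hb', rfl⟩
  · exact (tree_cases hQ hrep hs (Subgroup.mem_inf.2 ⟨hb, hg⟩)).1
  have hn := MG.nW_even pG χ0 hs
  obtain ⟨c, hc, c', hc', hc1, e⟩ : ∃ c ∈ MG.Bsub, ∃ c' ∈ MG.Bsub, pG c = 1 ∧
      b * MG.ev [16 + s] * b' = c * MG.ev [16 + s] * c' := by
    by_cases hb1 : pG b = 1
    · exact ⟨b, hb, b', hb', hb1, rfl⟩
    have ho := over_ok.1
    simp only [List.all_eq_true, List.mem_range, Bool.and_eq_true, List.any_eq_true, Bool.not_eq_true',
      List.contains_iff_mem] at ho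
    obtain ⟨⟨⟨⟨⟨hr, hp⟩, -⟩, -⟩, -⟩, -⟩ := ho s hs
    have hcr : MG.ev [oddRad s] ∈ MG.Bsub := MG.mem_Bsub_of_lt (Model.radCls_lt hs _ hr)
    have hd := MG.nW_conj_rad hs (MG.let_mem (R := radCls s) hr)
    refine ⟨_, mul_mem hb (inv_mem hd), _, mul_mem hcr hb', ?_, by group⟩
    have hodd := MG.χ_odd pG χ0 hp
    rw [map_mul, map_inv, map_mul, map_mul, map_inv, hn, one_mul, inv_one, mul_one]
    obtain ⟨h1, -, h3⟩ := Model.z2_cases (pG b) (pG (MG.ev [oddRad s])) hb1 hodd
    rw [(Model.z2_cases (pG (MG.ev [oddRad s])) (pG b) hodd hb1).2.2]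
    exact h1
  rw [e] at hg ⊢
  refine hQ _ c⁻¹ (inv_mem (MonoidHom.mem_ker.2 hc1)) ?_
  rw [inv_inv, show c⁻¹ * (c * MG.ev [16 + s] * c') * c = MG.ev [16 + s] * (c' * c) by group]
  refine (tree_cases hQ hrep hs (Subgroup.mem_inf.2 ⟨mul_mem hc' hc, ?_⟩)).2
  rw [MonoidHom.mem_ker, map_mul, map_mul, hc1, hn, one_mul, one_mul] at hg
  rw [MonoidHom.mem_ker, map_mul, hg, hc1, mul_one]

/-- elements centralising the central involution -/
theorem cent13 {g : GP} (hc : g * MG.ev [13] = MG.ev [13] * g) :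
    g ∈ MG.Bsub ∨ ∃ b ∈ MG.Bsub, ∃ b' ∈ MG.Bsub, g = b * MG.ev [16 + 1] * b' := by
  have := finite_Gp
  have hB : ∀ b ∈ MG.Bsub, Commute b (MG.ev [13]) := fun b hb => by
    have h := central13_ok
    simp only [List.all_eq_true, List.mem_range] at h
    induction hb using Subgroup.closure_induction with
    | mem x hx =>
      obtain ⟨j, hj, rfl⟩ := hx
      have e : MG.ev [j] * MG.ev [13] = MG.ev [13] * MG.ev [j] := by
        rw [← Model.ev_append, ← Model.ev_append]; exact eqW_ev (h j (List.mem_range.1 hj))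
      rwa [MG.ev_one j] at e
    | one => exact Commute.one_left _
    | mul x y _ _ hx hy => exact hx.mul_left hy
    | inv x _ hx => exact hx.inv_left
  obtain ⟨i, hi, b, hb, b', hb', rfl⟩ := MG.cell_of_mem (show g ∈ MG.Gam from split0.mG_top ▸ Subgroup.mem_top g)
  have h := cells13_ok
  simp only [List.all_eq_true, List.mem_range, Bool.or_eq_true, nat_beq_iff] at h
  rcases h i hi with (rfl | rfl) | h
  · left; rw [show stw 0 = [] from rfl, Model.ev_nil, mul_one]; exact mul_mem hb hb'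
  · right; exact ⟨b, hb, b', hb', by rw [show stw 2 = [16 + 1] from rfl]⟩
  · refine absurd ?_ (ev_ne h)
    rw [Model.ev_append, Model.ev_append]
    have h1 := (hB b hb).inv_left.eq
    have h2 := (hB b' hb').eq
    refine mul_left_cancel (a := b) (mul_right_cancel (b := b') ?_)
    calc b * (MG.ev (stw i) * MG.ev [13]) * b' = b * MG.ev (stw i) * (MG.ev [13] * b') := by group
      _ = b * MG.ev (stw i) * b' * MG.ev [13] := by rw [← h2]; group
      _ = MG.ev [13] * b * MG.ev (stw i) * b' := by rw [hc]; group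
      _ = b * (MG.ev [13] * MG.ev (stw i)) * b' := by rw [← (hB b hb).eq]; group

/-- elements centralising the second involution -/
theorem cent15 {g : GP} (hc : g * MG.ev [15] = MG.ev [15] * g) :
    g ∈ MG.Bsub ∨ ∃ b ∈ MG.Bsub, ∃ b' ∈ MG.Bsub, g = b * MG.ev [16 + 0] * b' := by
  have := finite_Gp
  have hcl := cls15_ok
  simp only [Bool.and_eq_true, beq_iff_eq, List.all_eq_true, List.mem_range, nat_blt_iff] at hcl
  obtain ⟨h0, hcl⟩ := hcl
  have hB : ∀ b ∈ MG.Bsub, ∀ a < 4, ∃ a' < 4, b * MG.ev (cls15.getD a []) * b⁻¹ = MG.ev (cls15.getD a' []) := by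
    intro b hb
    rw [← Subgroup.mem_toSubmonoid, Model.Bsub, Model.clos, Subgroup.closure_toSubmonoid_of_finite] at hb
    induction hb using Submonoid.closure_induction with
    | mem x hx =>
      obtain ⟨j, hj, rfl⟩ := hx
      intro a ha
      obtain ⟨hb', e⟩ := hcl a ha j (List.mem_range.1 hj)
      refine ⟨_, hb', ?_⟩
      have e' := eqW_ev e
      rw [Model.ev_append, Model.ev_append] at e'
      rw [← MG.ev_one, e', mul_inv_cancel_right]
    | one => intro a ha; exact ⟨a, ha, by simp⟩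
    | mul x y _ _ hx hy =>
      intro a ha
      obtain ⟨a1, h1, e1⟩ := hy a ha
      obtain ⟨a2, h2, e2⟩ := hx a1 h1
      exact ⟨a2, h2, by rw [← e2, ← e1]; group⟩
  obtain ⟨i, hi, b, hb, b', hb', rfl⟩ := MG.cell_of_mem (show g ∈ MG.Gam from split0.mG_top ▸ Subgroup.mem_top g)
  have h := cells15_ok
  simp only [List.all_eq_true, List.mem_range, Bool.or_eq_true, nat_beq_iff] at h
  rcases h i hi with (rfl | rfl) | h
  · left; rw [show stw 0 = [] from rfl, Model.ev_nil, mul_one]; exact mul_mem hb hb'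
  · right; exact ⟨b, hb, b', hb', by rw [show stw 1 = [16 + 0] from rfl]⟩
  · obtain ⟨a, ha, ea⟩ := hB b' hb' 0 (by norm_num)
    obtain ⟨a', ha', ea'⟩ := hB b⁻¹ (inv_mem hb) 0 (by norm_num)
    rw [h0] at ea ea'
    refine absurd ?_ (ev_ne (h a ha a' ha'))
    rw [Model.ev_append, Model.ev_append, ← ea, ← ea', inv_inv]
    calc MG.ev (stw i) * (b' * MG.ev [15] * b'⁻¹) = b⁻¹ * (b * MG.ev (stw i) * b' * MG.ev [15]) * b'⁻¹ := by group
      _ = _ := by rw [hc]; group

/-- an involution of the chosen two classes, up to even conjugation -/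
def InvGood (g : GP) : Prop :=
  g * g = 1 → g = 1 ∨ ∃ u ∈ pG.ker, u * g * u⁻¹ = MG.ev [13] ∨ u * g * u⁻¹ = MG.ev [15]

theorem invGood_closed : ConjClosed InvGood := by
  intro g u hu h hg
  have e : u * g * u⁻¹ * (u * g * u⁻¹) = 1 := by
    rw [show u * g * u⁻¹ * (u * g * u⁻¹) = u * (g * g) * u⁻¹ by group, hg, mul_one, mul_inv_cancel]
  rcases h e with h | ⟨v, hv, h⟩
  · exact Or.inl (conj_eq_one_iff.1 h)
  · refine Or.inr ⟨v * u, mul_mem hv hu, ?_⟩
    rwa [show v * u * g * (v * u)⁻¹ = v * (u * g * u⁻¹) * v⁻¹ by group]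

theorem invGood_rep : ∀ r < 22, InvGood (MG.ev (rep r)) := by
  intro r hr hg
  obtain ⟨-, -, h4, h5, h21, -⟩ := rep_eq
  have h := sq_ok
  simp only [chkSq, List.all_eq_true, List.mem_range, Bool.or_eq_true, nat_beq_iff] at h
  rw [← Model.ev_append] at hg
  rcases h r hr with (((rfl | rfl) | rfl) | h) | h
  · exact Or.inr ⟨1, one_mem _, Or.inl (by rw [h4]; group)⟩
  · exact Or.inr ⟨1, one_mem _, Or.inr (by rw [h5]; group)⟩
  · exact Or.inl (by rw [h21, Model.ev_nil])
  · refine absurd ?_ (vec_ne h)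
    rw [show runP 1 tabF4 (flat (rep r ++ rep r)) (2 ^ 48) = actV (rep r ++ rep r) (2 ^ 48) from rfl, ← act_ev, hg,
      act_one]
  · exact absurd (hg.trans MG.ev_nil.symm) (ev_ne h)

theorem involution_cases {t : GP} (ht : t ∈ pG.ker) (ho : orderOf t = 2) :
    ∃ u ∈ pG.ker, u * t * u⁻¹ = MG.ev [13] ∨ u * t * u⁻¹ = MG.ev [15] := by
  have := finite_TG
  let U : Subgroup TG := (MG.evenU pG).subgroupOf pG.ker
  have hcard : Nat.card ↥U = 2 ^ 11 :=
    (Nat.card_congr (Subgroup.subgroupOfEquivOfLe (H := MG.evenU pG) (K := pG.ker) inf_le_right).toEquiv).trans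
      card_evenU
  have hi : ¬ 2 ∣ U.index := fun hd => by
    have h := U.card_mul_index
    rw [hcard, card_TG] at h
    omega
  obtain ⟨u, hu⟩ := conj_into Nat.prime_two (IsPGroup.of_card hcard) hi (g := (⟨t, ht⟩ : TG)) (k := 1)
    (Subtype.ext (by simp [← ho, pow_orderOf_eq_one]))
  have hu' : (u : GP) * t * (u : GP)⁻¹ ∈ MG.evenU pG := hu
  have ho' : orderOf ((u : GP) * t * (u : GP)⁻¹) = 2 := by rw [conj_order, ho]
  have key := (tree_cases invGood_closed invGood_rep (s := 0) (by norm_num) hu').1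
  rcases key (by
    have h2 := pow_orderOf_eq_one ((u : GP) * t * (u : GP)⁻¹)
    rwa [ho', sq] at h2) with h | ⟨v, hv, h⟩
  · rw [h, orderOf_one] at ho'; norm_num at ho'
  · refine ⟨v * u, mul_mem hv u.2, ?_⟩
    rwa [show v * (u : GP) * t * (v * (u : GP))⁻¹ = v * ((u : GP) * t * (u : GP)⁻¹) * v⁻¹ by group]

/-- either trivial or a product of two conjugates -/
def OneOrGood (g : GP) : Prop := g = 1 ∨ Good g

theorem oneOrGood_closed : ConjClosed OneOrGood := fun g u hu h =>
  h.imp (fun h => conj_eq_one_iff.1 h) (good_closed g u hu)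

theorem oneOrGood_rep : ∀ r < 22, OneOrGood (MG.ev (rep r)) := by
  intro r hr
  rcases lt_or_ge r 21 with h | h
  · exact Or.inr (good_rep h)
  · left; rw [show r = 21 by omega, rep_eq.2.2.2.2.1, Model.ev_nil]

/-- every nontrivial even element is a product of two conjugates -/
theorem good_all {g : GP} (hg : g ∈ pG.ker) (h1 : g ≠ 1) : Good g := by
  have := finite_Gp
  rcases Nat.even_or_odd (orderOf g) with he | ho
  swap
  · exact good_odd hg h1 ho
  have hd : 2 ∣ orderOf g := even_iff_two_dvd.1 he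
  have ot : orderOf (g ^ (orderOf g / 2)) = 2 := orderOf_pow_orderOf_div (orderOf_pos g).ne' hd
  obtain ⟨u, hu, h⟩ := involution_cases (pow_mem hg _) ot
  have hg' : u * g * u⁻¹ ∈ pG.ker := mul_mem (mul_mem hu hg) (inv_mem hu)
  have hc : ∀ t : GP, u * g ^ (orderOf g / 2) * u⁻¹ = t → u * g * u⁻¹ * t = t * (u * g * u⁻¹) := by
    rintro _ rfl
    rw [← conj_pow]
    exact (Commute.self_pow _ _).eq
  refine good_closed g u hu ?_
  rcases h with h | h
  · exact ((of_cell oneOrGood_closed oneOrGood_rep hg' (by norm_num) (cent13 (hc _ h))).resolve_left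
      fun e => h1 (conj_eq_one_iff.1 e))
  · exact ((of_cell oneOrGood_closed oneOrGood_rep hg' (by norm_num) (cent15 (hc _ h))).resolve_left
      fun e => h1 (conj_eq_one_iff.1 e))

/-- the Tits group is covered by the square of a class of elements of order thirteen -/
theorem tits_class_square : ∃ x : Cfsg.Lie.TitsGroup, Odd (orderOf x) ∧
    ∀ g : Cfsg.Lie.TitsGroup, g ≠ 1 → ∃ u v : Cfsg.Lie.TitsGroup, g = (u * x * u⁻¹) * (v * x * v⁻¹) := by
  have := finite_Gp
  let f : ↥split0.χ.ker ≃* Cfsg.Lie.TitsGroup :=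
    (MulEquiv.subgroupCongr split0.derived.1.symm).trans
      (((commutator split0.Gp).equivMapOfInjective toTw.toMonoidHom toTw.injective).trans
        (MulEquiv.subgroupCongr (map_commutator_equiv toTw)))
  let x : TG := ⟨MG.ev xW, ev_even rep_eq.2.2.2.2.2.2.2⟩
  refine ⟨f x, ?_, fun g hg => ?_⟩
  · rw [MulEquiv.orderOf_eq, ← Subgroup.orderOf_coe, x_order]; decide
  obtain ⟨a, rfl⟩ := f.surjective g
  obtain ⟨u, hu, v, hv, e⟩ := good_all a.2 (fun e => hg (by rw [show a = 1 from Subtype.ext e, map_one]))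
  refine ⟨f ⟨u, hu⟩, f ⟨v, hv⟩, ?_⟩
  simp only [← map_inv, ← map_mul]
  exact congrArg f (Subtype.ext e)

end CfsgLib.TitsSquare
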