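import Cfsg.Agent.Lib.Known.TitsSquare.Stab

/-!
Elements of odd order in the Tits group are products of two conjugates of an element of order thirteen.
-/

set_option autoImplicit false
set_option maxRecDepth 20000

namespace CfsgLib.TitsSquare

open Cfsg.Lie (chevF4)
open CfsgLib.Lie.Chev CfsgLib.Lie.TitsEval CfsgLib.Lie.Tits
open CfsgLib.Sporadic.Mult MultData

attribute [local irreducible] Cfsg.Lie.chevF4 Cfsg.Lie.ChevalleyDatum.group tabF4 idF4 split0

theorem rep_eq : rep 1 = [17, 2] ∧ rep 2 = xW ∧ rep 4 = [13] ∧ rep 5 = [15] ∧ rep 21 = [] ∧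
    par [13] = false ∧ par [15] = false ∧ par xW = false := by
  have h := rep_ok
  simp only [Bool.and_eq_true, beq_iff_eq, Bool.not_eq_true'] at h
  obtain ⟨⟨⟨⟨⟨⟨⟨h1, h2⟩, h3⟩, h4⟩, h5⟩, h6⟩, h7⟩, h8⟩ := h
  exact ⟨h1, h2, h3, h4, h5, h6, h7, h8⟩

theorem lpT_val (ls : List (List ℕ)) (h : (ls.all fun w => !par w) = true) :
    ((lpT ls : TG) : GP) = MG.ev ls.flatten := (lpT_flatten ls h).2

/-- conjugation of a prime power element into a Sylow subgroup -/
theorem conj_into {p k : ℕ} (hp : p.Prime) {U : Subgroup TG} (hU : IsPGroup p U) (hi : ¬ p ∣ U.index)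
    {g : TG} (hg : g ^ p ^ k = 1) : ∃ u : TG, u * g * u⁻¹ ∈ U := by
  have := finite_TG
  have := Fact.mk hp
  have hz : IsPGroup p ↥(Subgroup.zpowers g) := by
    rintro ⟨x, n, rfl⟩
    refine ⟨k, Subtype.ext ?_⟩
    rw [SubmonoidClass.coe_pow, Subgroup.coe_one]
    show (g ^ n) ^ p ^ k = 1
    rw [← zpow_natCast, ← zpow_mul, mul_comm, zpow_mul, zpow_natCast, hg, one_zpow]
  obtain ⟨Q, hQ⟩ := hz.exists_le_sylow
  obtain ⟨x, hx⟩ := MulAction.exists_smul_eq TG Q (hU.toSylow hi)
  refine ⟨x, ?_⟩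
  have h1 : x * g * x⁻¹ ∈ ((x • Q : Sylow p TG) : Subgroup TG) := by
    rw [Sylow.coe_subgroup_smul]
    exact ⟨g, hQ (Subgroup.mem_zpowers g), rfl⟩
  rwa [hx, IsPGroup.toSylow_coe] at h1

/-- the elements of a subgroup with a complete table -/
theorem table_elems {D : Table} (hok : D.ok = true) (t : ℕ → TG) (hrel : ∀ W ∈ D.rels, wprod t W = 1)
    (hlt : ∀ p < D.N, ∀ i ∈ D.wd p, i < D.k) (hinj : Set.InjOn (fun p => wprod t (D.wd p)) {p | p < D.N}) :
    ∃ U : Subgroup TG, Nat.card U = D.N ∧ ∀ g ∈ U, ∃ p < D.N, g = wprod t (D.wd p) := by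
  have := finite_TG
  obtain ⟨hcard, -⟩ := complement_of_table (MonoidHom.id TG) Function.surjective_id (by simp) hok t hrel t
    (fun i _ => rfl) hlt hinj
  refine ⟨_, hcard, fun g hg => ?_⟩
  set U := Subgroup.closure (t '' {i | i < D.k}) with hU
  have hsub : (fun p => wprod t (D.wd p)) '' {p | p < D.N} ⊆ (U : Set TG) := by
    rintro _ ⟨p, hp, rfl⟩
    refine Subgroup.list_prod_mem _ fun x hx => ?_
    obtain ⟨i, hi, rfl⟩ := List.mem_map.1 hx
    exact Subgroup.subset_closure ⟨i, hlt p hp i hi, rfl⟩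
  have he := Set.eq_of_subset_of_ncard_le hsub (by
    rw [Set.InjOn.ncard_image hinj, show {p | p < D.N} = Set.Iio D.N from rfl, Set.ncard_Iio_nat,
      ← Nat.card_coe_set_eq]
    exact hcard.le) (Set.toFinite _)
  obtain ⟨p, hp, e⟩ := (he ▸ hg : g ∈ (fun p => wprod t (D.wd p)) '' {p | p < D.N})
  exact ⟨p, hp, e.symm⟩

theorem wprod_lpT (at' : ℕ → List ℕ) (w : List ℕ) : wprod (fun i => elT (at' i)) w = lpT (w.map at') := by
  simp [wprod, lpT, List.map_map, Function.comp_def]

theorem threeAt_even (i : ℕ) : par (threeAt i) = false := by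
  obtain ⟨-, -, -, -, -, -, -, hev, -⟩ := three_checks
  simp only [List.all_eq_true, Bool.not_eq_true'] at hev
  rcases lt_or_ge i threeGens.length with h | h
  · rw [threeAt, List.getD_eq_getElem _ _ h]; exact hev _ (List.getElem_mem h)
  · rw [threeAt, List.getD_eq_default _ _ h]; rfl

theorem fiveAt_even (i : ℕ) : par (fiveAt i) = false := by
  obtain ⟨-, -, -, -, -, -, -, -, -, pX, pY⟩ := five_checks
  match i with
  | 0 => simpa [fiveAt] using pX
  | 1 => simpa [fiveAt] using pY
  | n + 2 => simp [fiveAt, par]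

theorem all_even (at' : ℕ → List ℕ) (h : ∀ i, par (at' i) = false) (w : List ℕ) :
    ((w.map at').all fun v => !par v) = true := by simp [List.all_eq_true, h]

/-- every element of three-power order is trivial or conjugate to the representative -/
theorem three_elts {g : GP} (hg : g ∈ pG.ker) {k : ℕ} (hk : g ^ 3 ^ k = 1) :
    g = 1 ∨ ∃ u ∈ pG.ker, u * g * u⁻¹ = MG.ev (rep 0) := by
  have := finite_TG
  obtain ⟨hok, hlt, hnd, dX, dY, -, -, hev, -, drel⟩ := three_checks
  let t : ℕ → TG := fun i => elT (threeAt i)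
  have ev := all_even threeAt threeAt_even
  have hrel : ∀ W ∈ threeTable.rels, wprod t W = 1 := by
    intro W hW
    rw [wprod_lpT]
    have eX : elT (threeAt 1) = (elT (threeAt 0))⁻¹ :=
      (inv_eq_of_mul_eq_one_right (by simpa [lpT] using chk_eq dX)).symm
    have eY : elT (threeAt 3) = (elT (threeAt 2))⁻¹ :=
      (inv_eq_of_mul_eq_one_right (by simpa [lpT] using chk_eq dY)).symm
    rcases drel W hW with rfl | rfl | rfl | rfl | ⟨-, -, hd⟩
    · simp [lpT, eX]
    · simp [lpT, eX]
    · simp [lpT, eY]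
    · simp [lpT, eY]
    · exact chk_eq hd
  have hlt' : ∀ p < threeTable.N, ∀ i ∈ threeTable.wd p, i < threeTable.k := fun p hp => hlt ⟨p, hp⟩
  have hinj : Set.InjOn (fun p => wprod t (threeTable.wd p)) {p | p < threeTable.N} := by
    intro p hp q hq e
    refine List.inj_on_of_nodup_map hnd (List.mem_range.2 hp) (List.mem_range.2 hq) (lpT_key (ev _) (ev _) ?_)
    simpa only [t, wprod_lpT] using e
  obtain ⟨U, hcard, hU⟩ := table_elems hok t hrel hlt' hinj
  rw [show threeTable.N = 27 from rfl] at hcard hU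
  have hi : ¬ 3 ∣ U.index := fun hd => by
    have h := U.card_mul_index
    rw [hcard, card_TG] at h
    omega
  obtain ⟨u, hu⟩ := conj_into (by norm_num) (IsPGroup.of_card (n := 3) (by rw [hcard]; norm_num)) hi
    (g := (⟨g, hg⟩ : TG)) (k := k) (Subtype.ext (by simpa using hk))
  obtain ⟨p, hp, e⟩ := hU _ hu
  have e1 : (u : GP) * g * (u : GP)⁻¹ = MG.ev ((threeTable.wd p).map threeAt).flatten := by
    rw [← lpT_val _ (ev _), ← wprod_lpT, ← e]; rfl
  rcases p with _ | p
  · left
    rw [show threeTable.wd 0 = [] from rfl, List.map_nil, List.flatten_nil, Model.ev_nil] at e1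
    exact (conj_eq_one_iff.1 e1)
  · right
    have h := threeConj_ok
    simp only [List.all_eq_true, List.mem_range, Bool.and_eq_true, Bool.not_eq_true', nat_beq_iff] at h
    obtain ⟨⟨er, hh⟩, e2⟩ := h p (by omega)
    refine ⟨MG.ev (threeConj.getD p (0, [])).2 * u, mul_mem (ev_even hh) u.2, ?_⟩
    have e3 := eqW_ev e2
    rw [Model.ev_append, Model.ev_append, er] at e3
    rw [show MG.ev (threeConj.getD p (0, [])).2 * ↑u * g * (MG.ev (threeConj.getD p (0, [])).2 * ↑u)⁻¹ =
      MG.ev (threeConj.getD p (0, [])).2 * (↑u * g * (↑u)⁻¹) * (MG.ev (threeConj.getD p (0, [])).2)⁻¹ by group,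
      e1, e3, mul_inv_cancel_right]

/-- every element of five-power order is trivial or conjugate to the representative -/
theorem five_elts {g : GP} (hg : g ∈ pG.ker) {k : ℕ} (hk : g ^ 5 ^ k = 1) :
    g = 1 ∨ ∃ u ∈ pG.ker, u * g * u⁻¹ = MG.ev [17, 2] := by
  have := finite_TG
  obtain ⟨hok, hlt, hnd, dXY, dX5, dY5, -, -, drels, pX, pY⟩ := five_checks
  let t : ℕ → TG := fun i => elT (fiveAt i)
  have ev := all_even fiveAt fiveAt_even
  have exy : elT fiveX * elT fiveY = elT fiveY * elT fiveX := by simpa [lpT] using chk_eq dXY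
  have hrel : ∀ W ∈ fiveTable.rels, wprod t W = 1 := by
    intro W hW
    rw [wprod_lpT]
    rw [show fiveTable.rels = fiveRels from rfl, drels] at hW
    fin_cases hW
    · exact chk_eq dX5
    · exact chk_eq dY5
    · have e5 : elT fiveX ^ 5 = 1 := by simpa [lpT, pow_succ, mul_assoc] using chk_eq dX5
      have f5 : elT fiveY ^ 5 = 1 := by simpa [lpT, pow_succ, mul_assoc] using chk_eq dY5
      simp only [lpT, fiveAt, List.map_cons, List.map_nil, List.getD_cons_succ, List.getD_cons_zero,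
        List.prod_cons, List.prod_nil, mul_one]
      calc _ = elT fiveX * (elT fiveY * elT fiveX ^ 4) * elT fiveY ^ 4 := by
            simp only [pow_succ, pow_zero, one_mul, mul_assoc]
        _ = elT fiveX * (elT fiveX ^ 4 * elT fiveY) * elT fiveY ^ 4 := by
            rw [((show Commute (elT fiveY) (elT fiveX) from exy.symm).pow_right 4).eq]
        _ = elT fiveX ^ 5 * elT fiveY ^ 5 := by simp only [pow_succ, pow_zero, one_mul, mul_assoc]
        _ = 1 := by rw [e5, f5, mul_one]
  have hlt' : ∀ p < fiveTable.N, ∀ i ∈ fiveTable.wd p, i < fiveTable.k := fun p hp => hlt ⟨p, hp⟩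
  have hinj : Set.InjOn (fun p => wprod t (fiveTable.wd p)) {p | p < fiveTable.N} := by
    intro p hp q hq e
    refine List.inj_on_of_nodup_map hnd (List.mem_range.2 hp) (List.mem_range.2 hq) (lpT_key (ev _) (ev _) ?_)
    simpa only [t, wprod_lpT] using e
  obtain ⟨U, hcard, hU⟩ := table_elems hok t hrel hlt' hinj
  rw [show fiveTable.N = 25 from rfl] at hcard hU
  have hi : ¬ 5 ∣ U.index := fun hd => by
    have h := U.card_mul_index
    rw [hcard, card_TG] at h
    omega
  obtain ⟨u, hu⟩ := conj_into (by norm_num) (IsPGroup.of_card (n := 2) (by rw [hcard]; norm_num)) hi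
    (g := (⟨g, hg⟩ : TG)) (k := k) (Subtype.ext (by simpa using hk))
  obtain ⟨p, hp, e⟩ := hU _ hu
  have e1 : (u : GP) * g * (u : GP)⁻¹ = MG.ev ((fiveTable.wd p).map fiveAt).flatten := by
    rw [← lpT_val _ (ev _), ← wprod_lpT, ← e]; rfl
  rcases p with _ | p
  · left
    rw [show fiveTable.wd 0 = [] from rfl, List.map_nil, List.flatten_nil, Model.ev_nil] at e1
    exact (conj_eq_one_iff.1 e1)
  · right
    have h := fiveConj_ok
    simp only [List.all_eq_true, List.mem_range, Bool.and_eq_true, Bool.not_eq_true', nat_beq_iff] at h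
    obtain ⟨⟨er, hh⟩, e2⟩ := h p (by omega)
    refine ⟨MG.ev (fiveConj.getD p (0, [])).2 * u, mul_mem (ev_even hh) u.2, ?_⟩
    have e3 := eqW_ev e2
    rw [Model.ev_append, Model.ev_append, er, rep_eq.1] at e3
    rw [show MG.ev (fiveConj.getD p (0, [])).2 * ↑u * g * (MG.ev (fiveConj.getD p (0, [])).2 * ↑u)⁻¹ =
      MG.ev (fiveConj.getD p (0, [])).2 * (↑u * g * (↑u)⁻¹) * (MG.ev (fiveConj.getD p (0, [])).2)⁻¹ by group,
      e1, e3, mul_inv_cancel_right]

theorem x_order : orderOf (MG.ev xW) = 13 := by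
  have := Fact.mk (show Nat.Prime 13 by norm_num)
  refine orderOf_eq_prime ?_ fun h => vec_ne stab_ok.2.2.1 ?_
  · have e := eqW_ev thirteenConj_ok.2
    rwa [MG.ev_replicate, Model.ev_nil] at e
  · rw [← act_ev, h, act_one]

/-- the elements of order thirteen -/
theorem thirteen_elts {g : GP} (hg : g ∈ pG.ker) (ho : orderOf g = 13) :
    ∃ u ∈ pG.ker, ∃ j < 13, j ≠ 0 ∧ u * g * u⁻¹ = MG.ev xW ^ j := by
  classical
  have := finite_TG
  let x : TG := ⟨MG.ev xW, ev_even rep_eq.2.2.2.2.2.2.2⟩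
  have hx : orderOf x = 13 := by rw [← Subgroup.orderOf_coe]; exact x_order
  have hcard : Nat.card ↥(Subgroup.zpowers x) = 13 := by rw [Nat.card_zpowers, hx]
  have hi : ¬ 13 ∣ (Subgroup.zpowers x).index := fun hd => by
    have h := (Subgroup.zpowers x).card_mul_index
    rw [hcard, card_TG] at h
    omega
  obtain ⟨u, hu⟩ := conj_into (by norm_num) (IsPGroup.of_card (n := 1) (by rw [hcard]; norm_num)) hi
    (g := (⟨g, hg⟩ : TG)) (k := 1) (Subtype.ext (by simp [← ho, pow_orderOf_eq_one]))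
  rw [← mem_powers_iff_mem_zpowers, mem_powers_iff_mem_range_orderOf, hx] at hu
  obtain ⟨j, hj, e⟩ := Finset.mem_image.1 hu
  refine ⟨u, u.2, j, Finset.mem_range.1 hj, fun h0 => ?_, (congrArg Subtype.val e).symm⟩
  subst h0
  have e' := (congrArg Subtype.val e).symm
  simp only [Subgroup.coe_mul, Subgroup.coe_inv, pow_zero, Subgroup.coe_one, conj_eq_one_iff] at e'
  rw [e', orderOf_one] at ho
  norm_num at ho

theorem good_prime {g : GP} (hg : g ∈ pG.ker) (ho : orderOf g = 3 ∨ orderOf g = 5 ∨ orderOf g = 13) : Good g := by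
  rcases ho with ho | ho | ho
  · rcases three_elts hg (k := 1) (by rw [pow_one, ← ho]; exact pow_orderOf_eq_one g) with rfl | ⟨u, hu, e⟩
    · rw [orderOf_one] at ho; norm_num at ho
    · exact good_closed g u hu (e ▸ good_rep (by norm_num))
  · rcases five_elts hg (k := 1) (by rw [pow_one, ← ho]; exact pow_orderOf_eq_one g) with rfl | ⟨u, hu, e⟩
    · rw [orderOf_one] at ho; norm_num at ho
    · exact good_closed g u hu (e ▸ rep_eq.1 ▸ good_rep (by norm_num))
  · obtain ⟨u, hu, j, hj, hj0, e⟩ := thirteen_elts hg ho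
    obtain ⟨i, rfl⟩ := Nat.exists_eq_succ_of_ne_zero hj0
    have h := thirteenConj_ok.1
    simp only [List.all_eq_true, List.mem_range, Bool.and_eq_true, Bool.not_eq_true', nat_beq_iff,
      Bool.or_eq_true] at h
    obtain ⟨⟨hr, hh⟩, e2⟩ := h i (by omega)
    refine good_closed g u hu (e ▸ good_closed _ _ (ev_even hh) ?_)
    have e3 := eqW_ev e2
    rw [Model.ev_append, Model.ev_append, MG.ev_replicate] at e3
    rw [e3, mul_inv_cancel_right]
    exact good_rep (by omega)

/-- the fixed points of the element of order five on the orbit -/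
def fixSet : Set Vec := {y | InO y ∧ act (MG.ev [17, 2]) y = y}

theorem fixSet_spec : fixSet.Finite ∧ fixSet.ncard = 5 := by
  obtain ⟨h1, h2, h3⟩ := fixFive_ok
  simp only [List.all_eq_true, Bool.and_eq_true, Bool.not_eq_true', nat_beq_iff] at h1
  simp only [List.all_eq_true, List.mem_range] at h2
  let f : Fin 5 → Vec := fun a => vec (fixFive.getD a (0, [])).1
  have hf : Function.Injective f := by
    intro a b e
    by_contra hne
    rcases lt_or_gt_of_ne (fun h => hne (Fin.ext h)) with h | h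
    · exact vec_ne (h2 b b.2 a h) e.symm
    · exact vec_ne (h2 a a.2 b h) e
  have he : fixSet = Set.range f := by
    ext y
    constructor
    · rintro ⟨hy, hfix⟩
      obtain ⟨v, hv, rfl⟩ := inO_inTab hy
      obtain ⟨k, hk, b, hb, hvb⟩ := inOrb_bucket hv
      have := block_spec chkFix fix_0 fix_1 fix_2 fix_3 fix_4 fix_5 fix_6 fix_7 fix_8 fix_9 fix_10 fix_11 fix_12
        fix_13 fix_14 fix_15 hk
      simp only [chkFix, List.all_eq_true, Bool.or_eq_true, List.any_eq_true, nat_beq_iff] at this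
      rcases this b hb v hvb with ⟨e, he, rfl⟩ | h
      · obtain ⟨a, ha, rfl⟩ := List.getElem_of_mem he
        exact ⟨⟨a, by omega⟩, by simp only [f]; rw [List.getD_eq_getElem _ _ ha]⟩
      · exact absurd (by rw [← act_ev]; exact hfix) (vec_ne h)
    · rintro ⟨a, rfl⟩
      have ha : (a : ℕ) < fixFive.length := by omega
      obtain ⟨⟨p, e1⟩, e2⟩ := h1 _ (List.getElem_mem ha)
      simp only [f, List.getD_eq_getElem _ _ ha]
      exact ⟨⟨_, ev_even p, by rw [v0, act_ev, e1]⟩, by rw [act_ev, e2]⟩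
  refine ⟨he ▸ Set.finite_range f, ?_⟩
  rw [he, ← Nat.card_coe_set_eq, Nat.card_range_of_injective hf, Nat.card_fin]

/-- the orbit vectors adjacent to their image under the element of order thirteen -/
def nbrSet : Set Vec := {y | InO y ∧ InO (y + act (MG.ev xW) y)}

theorem nbrSet_spec : nbrSet.Finite ∧ nbrSet.ncard = 13 := by
  obtain ⟨⟨hl, h0, hs, h12, hd⟩, hsum, hp⟩ := thirteen_list_ok
  simp only [List.all_eq_true, List.mem_range, nat_beq_iff] at hs hd
  rw [nat_beq_iff] at h12 hsum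
  have hx := ev_even rep_eq.2.2.2.2.2.2.2
  let f : Fin 13 → Vec := fun a => vec (orbThirteen.getD a 0)
  have hf : Function.Injective f := by
    intro a b e
    by_contra hne
    rcases lt_or_gt_of_ne (fun h => hne (Fin.ext h)) with h | h
    · exact vec_ne (hd b b.2 a h) e.symm
    · exact vec_ne (hd a a.2 b h) e
  have he : nbrSet = Set.range f := by
    ext y
    constructor
    · rintro ⟨hy, hn⟩
      obtain ⟨v, hv, rfl⟩ := inO_inTab hy
      obtain ⟨k, hk, b, hb, hvb⟩ := inOrb_bucket hv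
      have := block_spec chkThirteen thirteen_0 thirteen_1 thirteen_2 thirteen_3 thirteen_4 thirteen_5 thirteen_6
        thirteen_7 thirteen_8 thirteen_9 thirteen_10 thirteen_11 thirteen_12 thirteen_13 thirteen_14 thirteen_15 hk
      simp only [chkThirteen, List.all_eq_true, Bool.or_eq_true, List.any_eq_true, nat_beq_iff,
        Bool.not_eq_true'] at this
      rcases this b hb v hvb with ⟨u, hu, rfl⟩ | h
      · obtain ⟨a, ha, rfl⟩ := List.getElem_of_mem hu
        exact ⟨⟨a, by omega⟩, by simp only [f]; rw [List.getD_eq_getElem _ _ ha]⟩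
      · obtain ⟨w, hw, e⟩ := inO_inTab hn
        rw [act_ev, ← vec_xor] at e
        rw [inOrb_congr e hw] at h
        exact absurd h (by decide)
    · rintro ⟨⟨a, ha⟩, rfl⟩
      induction a with
      | zero =>
        simp only [f, h0]
        exact ⟨⟨1, one_mem _, act_one _⟩, ⟨_, ev_even hp, by rw [act_ev, ← vec_xor, v0, act_ev, hsum]⟩⟩
      | succ a ih =>
        obtain ⟨i1, i2⟩ := ih (by omega)
        have e : act (MG.ev xW) (f ⟨a, by omega⟩) = f ⟨a + 1, ha⟩ := by
          simp only [f]; rw [act_ev, hs a (by omega)]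
        refine ⟨e ▸ inO_act hx i1, ?_⟩
        have := inO_act hx i2
        rwa [act_add, e] at this
  refine ⟨he ▸ Set.finite_range f, ?_⟩
  rw [he, ← Nat.card_coe_set_eq, Nat.card_range_of_injective hf, Nat.card_fin]

/-- the composite odd orders do not occur -/
theorem no_order {g : GP} (hg : g ∈ pG.ker) {d : ℕ} (hd : d ∈ ([9, 25, 15, 39, 65] : List ℕ)) :
    orderOf g ≠ d := by
  have := finite_Gp
  intro ho
  have pw : ∀ a : ℕ, a ∣ d → a ≠ 0 → orderOf (g ^ a) = d / a := fun a ha h0 => by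
    rw [orderOf_pow_of_dvd h0 (ho ▸ ha), ho]
  have conjOrd : ∀ (u y : GP), orderOf (u * y * u⁻¹) = orderOf y := fun u y => by
    simpa using orderOf_injective (MulAut.conj u).toMonoidHom (MulEquiv.injective _) y
  have h3 : orderOf (MG.ev (rep 0)) ∣ 3 := orderOf_dvd_of_pow_eq_one (by
    have e := eqW_ev small_orders_ok.1
    rwa [MG.ev_replicate, Model.ev_nil] at e)
  have five : ∀ (a : ℕ), d = 5 * a → (a = 3 ∨ a = 13) → False := by
    intro a hda ha
    have o5 : orderOf (g ^ a) = 5 := by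
      rw [pw a ⟨5, by omega⟩ (by omega), hda]; exact Nat.mul_div_cancel 5 (by omega)
    obtain h | ⟨u, hu, e⟩ := five_elts (pow_mem hg a) (k := 1) (by rw [pow_one, ← o5]; exact pow_orderOf_eq_one _)
    · rw [h, orderOf_one] at o5; norm_num at o5
    set b := u * g ^ 5 * u⁻¹ with hb
    have hbk : b ∈ pG.ker := mul_mem (mul_mem hu (pow_mem hg 5)) (inv_mem hu)
    have ob : orderOf b = a := by
      rw [hb, conjOrd, pw 5 ⟨a, hda⟩ (by norm_num), hda]; exact Nat.mul_div_cancel_left a (by norm_num)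
    have hc : b * MG.ev [17, 2] = MG.ev [17, 2] * b := by
      rw [← e, hb, show u * g ^ 5 * u⁻¹ * (u * g ^ a * u⁻¹) = u * (g ^ 5 * g ^ a) * u⁻¹ by group,
        show u * g ^ a * u⁻¹ * (u * g ^ 5 * u⁻¹) = u * (g ^ a * g ^ 5) * u⁻¹ by group, ← pow_add, ← pow_add,
        add_comm]
    obtain ⟨hfin, hn⟩ := fixSet_spec
    clear_value b
    obtain ⟨y, hy, hfy⟩ := exists_fix hfin (p := a) (by rcases ha with rfl | rfl <;> norm_num)
      (by rw [hn]; rcases ha with rfl | rfl <;> norm_num) (g := b) (ob ▸ pow_orderOf_eq_one b) fun y hy =>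
        ⟨inO_act hbk hy.1, by rw [← act_mul, ← hc, act_mul, hy.2]⟩
    exact no_fix hbk ob ha hy.1 hfy
  simp only [List.mem_cons, List.not_mem_nil, or_false] at hd
  rcases hd with rfl | rfl | rfl | rfl | rfl
  · rcases three_elts hg (k := 2) (by rw [show 3 ^ 2 = 9 by norm_num, ← ho]; exact pow_orderOf_eq_one g) with
      rfl | ⟨u, hu, e⟩
    · rw [orderOf_one] at ho; norm_num at ho
    · rw [← e, conjOrd, ho] at h3; norm_num at h3
  · rcases five_elts hg (k := 2) (by rw [show 5 ^ 2 = 25 by norm_num, ← ho]; exact pow_orderOf_eq_one g) with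
      rfl | ⟨u, hu, e⟩
    · rw [orderOf_one] at ho; norm_num at ho
    · have := congrArg orderOf e; rw [conjOrd, ho, five_order] at this; norm_num at this
  · exact five 3 rfl (Or.inl rfl)
  · have o13 : orderOf (g ^ 3) = 13 := by rw [pw 3 (by norm_num) (by norm_num)]
    obtain ⟨u, hu, j, hj, hj0, e⟩ := thirteen_elts (pow_mem hg 3) o13
    set b := u * g ^ 13 * u⁻¹ with hb
    have hbk : b ∈ pG.ker := mul_mem (mul_mem hu (pow_mem hg 13)) (inv_mem hu)
    have ob : orderOf b = 3 := by rw [hb, conjOrd, pw 13 (by norm_num) (by norm_num)]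
    have hc : Commute b (MG.ev xW ^ j) := by
      rw [← e, hb]
      show _ * _ = _ * _
      rw [show u * g ^ 13 * u⁻¹ * (u * g ^ 3 * u⁻¹) = u * (g ^ 13 * g ^ 3) * u⁻¹ by group,
        show u * g ^ 3 * u⁻¹ * (u * g ^ 13 * u⁻¹) = u * (g ^ 3 * g ^ 13) * u⁻¹ by group, ← pow_add, ← pow_add,
        add_comm]
    have hco : Nat.Coprime j (orderOf (MG.ev xW)) := by
      rw [x_order, Nat.coprime_comm]
      exact (show Nat.Prime 13 by norm_num).coprime_iff_not_dvd.2 (Nat.not_dvd_of_pos_of_lt (by omega) hj)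
    obtain ⟨i, hi⟩ := exists_pow_eq_self_of_coprime hco
    have hcx : Commute b (MG.ev xW) := hi ▸ hc.pow_right i
    obtain ⟨hfin, hn⟩ := nbrSet_spec
    clear_value b
    obtain ⟨y, hy, hfy⟩ := exists_fix hfin (p := 3) (by norm_num) (by rw [hn]; norm_num) (g := b)
      (ob ▸ pow_orderOf_eq_one b) fun y hy => ⟨inO_act hbk hy.1, by
        rw [← act_mul, ← hcx.eq, act_mul, ← act_add]; exact inO_act hbk hy.2⟩
    exact no_fix hbk ob (Or.inl rfl) hy.1 hfy
  · exact five 13 rfl (Or.inr rfl)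

/-- elements of odd order -/
theorem good_odd {g : GP} (hg : g ∈ pG.ker) (h1 : g ≠ 1) (ho : Odd (orderOf g)) : Good g := by
  have := finite_TG
  have hd : orderOf g ∣ 17971200 := by
    have := orderOf_dvd_natCard (⟨g, hg⟩ : TG)
    rwa [card_TG, ← Subgroup.orderOf_coe] at this
  have hco : Nat.Coprime (orderOf g) (2 ^ 11) := (Nat.coprime_two_right.2 ho).pow_right 11
  have h8 : orderOf g ∣ 8775 := hco.dvd_of_dvd_mul_left (by norm_num; exact hd)
  have h := odd_divisors_ok
  simp only [List.all_eq_true, List.mem_range, Bool.or_eq_true, Bool.not_eq_true', List.any_eq_true, nat_beq_iff,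
    ← Bool.not_eq_true] at h
  rcases h _ (Nat.lt_succ_of_le (Nat.le_of_dvd (by norm_num) h8)) with ((((e | e) | e) | e) | e) | ⟨d, hd', e⟩
  · exact absurd (Nat.mod_eq_zero_of_dvd h8) e
  · exact absurd (orderOf_eq_one_iff.1 e) h1
  · exact good_prime hg (Or.inl e)
  · exact good_prime hg (Or.inr (Or.inl e))
  · exact good_prime hg (Or.inr (Or.inr e))
  · have hdd : d ∣ orderOf g := Nat.dvd_of_mod_eq_zero e
    have hpos : 0 < orderOf g := ho.pos
    refine absurd (orderOf_pow_orderOf_div hpos.ne' hdd) ?_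
    exact no_order (pow_mem hg _) hd'

end CfsgLib.TitsSquare
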