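import Cfsg.Agent.Lib.Known.TitsSquare.Act
import Mathlib.GroupTheory.Perm.Cycle.Type

/-!
The point stabiliser in the Tits group of the action on 1755 vectors, and fixed points of commuting elements.
-/

set_option autoImplicit false

namespace CfsgLib.TitsSquare

open Cfsg.Lie (chevF4)
open CfsgLib.Lie.Chev CfsgLib.Lie.TitsEval CfsgLib.Lie.Tits

attribute [local irreducible] Cfsg.Lie.chevF4 Cfsg.Lie.ChevalleyDatum.group tabF4 idF4 split0

/-- the stabiliser of the base vector among even elements -/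
noncomputable def stab : Subgroup GP where
  carrier := {g | g ∈ pG.ker ∧ act g v0 = v0}
  one_mem' := ⟨one_mem _, act_one _⟩
  mul_mem' := fun ha hb => ⟨mul_mem ha.1 hb.1, by rw [act_mul, hb.2, ha.2]⟩
  inv_mem' := fun ha => ⟨inv_mem ha.1, act_inv ha.2⟩

theorem stab_gen {g : List ℕ} (hg : g ∈ ([[0], [2], [1, 4], [17], [2]] : List (List ℕ))) : MG.ev g ∈ stab := by
  have h := stab_ok.1
  simp only [List.all_eq_true, Bool.and_eq_true, Bool.not_eq_true', nat_beq_iff] at h
  obtain ⟨h1, h2⟩ := h g hg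
  exact ⟨ev_even h1, by rw [v0, act_ev, h2]⟩

theorem five_mem_stab : MG.ev [17, 2] ∈ stab := by
  rw [MG.ev_cons]; exact mul_mem (stab_gen (by simp)) (stab_gen (by simp))

theorem five_order : orderOf (MG.ev [17, 2]) = 5 := by
  have := Fact.mk (show Nat.Prime 5 by norm_num)
  refine orderOf_eq_prime ?_ fun h => ?_
  · have e := eqW_ev small_orders_ok.2.1
    rw [MG.ev_replicate, Model.ev_nil] at e
    have hr := rep_ok
    simp only [Bool.and_eq_true, beq_iff_eq] at hr
    rwa [hr.1.1.1.1.1.1.1] at e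
  · refine wg_ne (show 0 < 52 by norm_num) five_ne ?_
    rw [← fst0, ← fst0, h, Model.ev_nil]

theorem evenU_le_stab : MG.evenU pG ≤ stab := by
  refine (MG.evenU_le_genU pG χ0).trans ((Subgroup.closure_le _).2 ?_)
  rintro _ (rfl | rfl | rfl) <;> exact stab_gen (by simp)

theorem card_evenU : Nat.card ↥(MG.evenU pG) = 2 ^ 11 := by
  have := finite_Gp
  obtain ⟨h1, -, -, -⟩ := split0.simple card_BG card_Gp core_BG
  rw [split0.derived.1] at h1
  have e2 : (pG.ker.subgroupOf MG.Bsub).index = 2 := by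
    refine le_antisymm ?_ ?_
    · refine Nat.le_of_dvd two_pos ?_
      have := Subgroup.relIndex_dvd_index_of_normal pG.ker MG.Bsub
      rwa [h1] at this
    · refine (Nat.two_le_iff _).2 ⟨Subgroup.index_ne_zero_of_finite, fun e => ?_⟩
      have hle : MG.Bsub ≤ pG.ker := Subgroup.subgroupOf_eq_top.1 (Subgroup.index_eq_one.1 e)
      exact MG.χ_odd pG χ0 (w := [1]) (by decide +kernel) (hle (MG.mem_Bsub_of_lt (by norm_num)))
  have e3 := (pG.ker.subgroupOf MG.Bsub).card_mul_index
  rw [show Nat.card ↥MG.Bsub = 2 ^ 12 from card_BG, e2] at e3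
  have e4 : Nat.card ↥(pG.ker.subgroupOf MG.Bsub) = Nat.card ↥(MG.evenU pG) := by
    rw [← Subgroup.inf_subgroupOf_left, Nat.card_congr (Subgroup.subgroupOfEquivOfLe inf_le_left).toEquiv]
    rfl
  rw [← e4]; omega

theorem card_stab : Nat.card ↥stab = 10240 := by
  have := finite_Gp
  have hne : ¬ pG.ker ≤ stab := fun h => vec_ne stab_ok.2.1 (by
    rw [← act_ev]; exact (h (ev_even (by decide +kernel))).2)
  have hle := MG.over_card pG χ0 evenU_le_stab (fun g hg => hg.1) split0.mG_top hne
  rw [card_evenU] at hle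
  have h2 : 2 ^ 11 ∣ Nat.card ↥stab := card_evenU ▸ Subgroup.card_dvd_of_le evenU_le_stab
  have h5 : 5 ∣ Nat.card ↥stab := by
    rw [← five_order, ← Nat.card_zpowers]
    exact Subgroup.card_dvd_of_le (Subgroup.zpowers_le.2 five_mem_stab)
  have := (show Nat.Coprime (2 ^ 11) 5 by norm_num).mul_dvd_of_dvd_of_dvd h2 h5
  have hpos : 0 < Nat.card ↥stab := Nat.card_pos
  have := Nat.le_of_dvd hpos this
  omega

/-- an element of order three or thirteen has no fixed point on the orbit -/
theorem no_fix {g : GP} (hg : g ∈ pG.ker) {p : ℕ} (ho : orderOf g = p) (hp : p = 3 ∨ p = 13) {y : Vec}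
    (hy : InO y) : act g y ≠ y := by
  have := finite_Gp
  intro e
  obtain ⟨a, ha, rfl⟩ := hy
  have hm : a⁻¹ * g * a ∈ stab := ⟨mul_mem (mul_mem (inv_mem ha) hg) ha, by
    rw [act_mul, act_mul, e, act_inv rfl]⟩
  have h1 : orderOf (a⁻¹ * g * a) = p := by
    rw [← ho]
    have := orderOf_injective (MulAut.conj a⁻¹).toMonoidHom (MulEquiv.injective _) g
    simpa using this
  have h2 : p ∣ 10240 := by
    rw [← h1, ← card_stab, ← Nat.card_zpowers]
    exact Subgroup.card_dvd_of_le (Subgroup.zpowers_le.2 hm)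
  rcases hp with rfl | rfl <;> norm_num at h2

/-- a map of prime order on a finite set of size prime to it has a fixed point -/
theorem exists_fix {F : Set Vec} (hF : F.Finite) {p : ℕ} (hp : p.Prime) (hcard : ¬ p ∣ F.ncard) {g : GP}
    (hg : g ^ p = 1) (hmap : ∀ y ∈ F, act g y ∈ F) : ∃ y ∈ F, act g y = y := by
  classical
  have := Fact.mk hp
  have := hF.fintype
  let f : F → F := fun y => ⟨act g y.1, hmap _ y.2⟩
  have hf : Function.Injective f := fun a b h => Subtype.ext (act_injective g (congrArg Subtype.val h))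
  let σ : Equiv.Perm F := Equiv.ofBijective f (Finite.injective_iff_bijective.1 hf)
  have hpow : ∀ n : ℕ, ∀ y : F, ((σ ^ n) y).1 = act (g ^ n) y.1 := by
    intro n
    induction n with
    | zero => intro y; rw [pow_zero, pow_zero, act_one]; rfl
    | succ n ih => intro y; rw [pow_succ', pow_succ', act_mul, ← ih y]; rfl
  have hσ : σ ^ p ^ 1 = 1 := by
    rw [pow_one]
    ext1 y
    exact Subtype.ext (by rw [hpow, hg, act_one]; rfl)
  obtain ⟨y, hy⟩ := Equiv.Perm.exists_fixed_point_of_prime
    (by rwa [← Nat.card_eq_fintype_card, Nat.card_coe_set_eq]) hσ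
  exact ⟨y.1, y.2, congrArg Subtype.val hy⟩

end CfsgLib.TitsSquare
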